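import Groth.Agent.Lib.RigidRel.AbSch
import Groth.Agent.Lib.AbRigid.SmoothGI
import Groth.Agent.Lib.GeomIrr18.Top

/-!
# Abelian schemes: geometric connectedness, no bilinear maps
-/

universe u

open CategoryTheory Limits AlgebraicGeometry MonoidalCategory CartesianMonoidalCategory MonObj
open scoped GrpObj

set_option backward.isDefEq.respectTransparency false

namespace Groth.Agent.AbSchRigid22

theorem geometricallyConnected_id (S : Scheme.{u}) : GeometricallyConnected (𝟙 S) := by
  refine ⟨fun K _ y Y p q h => ?_⟩
  haveI : IsIso q := h.isIso_snd_of_isIso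
  exact (asIso q).hom.homeomorph.symm.connectedSpace_iff.1 inferInstance

/-- Connected fibres and a section: geometrically connected fibres. -/
theorem geometricallyConnected_of_section {X S : Scheme.{u}} (f : X ⟶ S) (σ : S ⟶ X) (hσ : σ ≫ f = 𝟙 S)
    (h : ∀ s : S, ConnectedSpace ↥(f.fiber s)) : GeometricallyConnected f := by
  rw [GeometricallyConnected.iff_geometricallyConnected_fiber]
  intro s
  haveI := h s
  let g : Spec (S.residueField s) ⟶ f.fiber s :=
    pullback.lift (S.fromSpecResidueField s ≫ σ) (𝟙 _) (by rw [Category.assoc, hσ]; simp)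
  have hg : g ≫ f.fiberToSpecResidueField s = 𝟙 (Spec (S.residueField s)) := pullback.lift_snd _ _ _
  haveI : GeometricallyConnected (g ≫ f.fiberToSpecResidueField s) := by
    rw [hg]; exact geometricallyConnected_id _
  exact GeomIrr.geometricallyConnected_of_hom (k := S.residueField s) (f.fiberToSpecResidueField s) g
    (Nonempty.some inferInstance)

theorem geometricallyConnected_of_grpObj {S : Scheme.{u}} (A : Over S) [GrpObj A]
    (h : ∀ s : S, ConnectedSpace ↥(A.hom.fiber s)) : GeometricallyConnected A.hom :=
  geometricallyConnected_of_section A.hom η[A].left (Over.w η[A]) h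

/-- A morphism from a product of two abelian schemes into a separated group vanishing on both axes
vanishes. -/
theorem eq_one_of_axes {S : Scheme.{u}} (A B C : Over S)
    [GrpObj A] [Smooth A.hom] [IsProper A.hom] (hA : ∀ s : S, ConnectedSpace ↥(A.hom.fiber s))
    [GrpObj B] (hB : ∀ s : S, ConnectedSpace ↥(B.hom.fiber s))
    [GrpObj C] [IsSeparated C.hom] (f : A ⊗ B ⟶ C)
    (h1 : lift (𝟙 A) (toUnit A ≫ η[B]) ≫ f = 1) (h2 : lift (toUnit B ≫ η[A]) (𝟙 B) ≫ f = 1) : f = 1 := by
  haveI := geometricallyConnected_of_grpObj A hA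
  haveI := geometricallyConnected_of_grpObj B hB
  haveI := AbRigid.geometricallyReduced_of_smooth A.hom
  have h0 : lift η[A] η[B] ≫ f = η[C] := by
    have e : lift η[A] η[B] = η[A] ≫ lift (𝟙 A) (toUnit A ≫ η[B]) := by
      ext1
      · simp
      · rw [lift_snd, Category.assoc, lift_snd, ← Category.assoc, toUnit_unique (η[A] ≫ toUnit A) (𝟙 _),
          Category.id_comp]
    rw [e, Category.assoc, h1, MonObj.comp_one, Hom.one_def, toUnit_unique (toUnit _) (𝟙 _), Category.id_comp]
  rw [RigidRel.eq_mul_of_axes A B C f η[A] η[B] h0, h1, h2]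
  simp

end Groth.Agent.AbSchRigid22
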