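import Groth.Agent.Lib.AbSchRigid22.Basic
import Groth.Prelude.Def_CGrpSh
import Groth.Prelude.Def_Biext

/-!
# Endomorphisms of biextensions of abelian schemes
-/

universe u

open CategoryTheory Limits AlgebraicGeometry MonoidalCategory CartesianMonoidalCategory MonObj
open scoped GrpObj

set_option backward.isDefEq.respectTransparency false

namespace Groth.Agent.AbSchRigid22

section General

variable {C : Type (u + 1)} [Category.{u} C] {J : GrothendieckTopology C}
variable {P Q G : Sheaf J AddCommGrpCat.{u + 1}} {B : Biext J P Q G} (f : Biext.Hom J B B)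

/-- The unique section of `G` moving `x` to `f x`. -/
noncomputable def diff {T : C} (x : B.E.obj.obj (Opposite.op T)) : G.obj.obj (Opposite.op T) :=
  (B.existsUnique_act T x (f.map T x) (f.πP_map T x).symm (f.πQ_map T x).symm).exists.choose

theorem diff_spec {T : C} (x : B.E.obj.obj (Opposite.op T)) : B.act T (diff f x) x = f.map T x :=
  (B.existsUnique_act T x (f.map T x) (f.πP_map T x).symm (f.πQ_map T x).symm).exists.choose_spec

theorem diff_eq {T : C} (x : B.E.obj.obj (Opposite.op T)) (g : G.obj.obj (Opposite.op T))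
    (h : B.act T g x = f.map T x) : diff f x = g :=
  (B.existsUnique_act T x (f.map T x) (f.πP_map T x).symm (f.πQ_map T x).symm).unique (diff_spec f x) h

theorem diff_map {T T' : C} (g : T' ⟶ T) (x : B.E.obj.obj (Opposite.op T)) :
    diff f (B.E.obj.map g.op x) = G.obj.map g.op (diff f x) := by
  apply diff_eq
  rw [← B.act_map, diff_spec, f.map_res]

theorem diff_congr {T : C} (x y : B.E.obj.obj (Opposite.op T)) (hP : B.πP T x = B.πP T y)
    (hQ : B.πQ T x = B.πQ T y) : diff f x = diff f y := by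
  obtain ⟨g, hg, -⟩ := B.existsUnique_act T x y hP hQ
  refine (diff_eq f y _ ?_).symm
  subst hg
  rw [← B.add_act, add_comm, B.add_act, diff_spec, f.map_act]
  rfl

theorem diff_eq_zero_of_πQ {T : C} (x : B.E.obj.obj (Opposite.op T)) (hx : B.πQ T x = 0) : diff f x = 0 := by
  set y := B.add₂ T x x rfl with hy
  have h1 : diff f y = diff f x := diff_congr f _ _ (B.πP_add₂ _ _ _ _) (by rw [B.πQ_add₂, hx, add_zero])
  have hP : B.πP T x = B.πP T (f.map T x) := (f.πP_map T x).symm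
  have h2 : diff f y = diff f x + diff f x := by
    apply diff_eq
    rw [hy, f.map_add₂, B.add_act, ← B.add₂_act, B.add₂_comm, ← B.add₂_act]
    simp only [diff_spec]
  rw [h1] at h2
  exact (left_eq_add.1 h2)

theorem diff_eq_zero_of_πP {T : C} (x : B.E.obj.obj (Opposite.op T)) (hx : B.πP T x = 0) : diff f x = 0 := by
  set y := B.add₁ T x x rfl with hy
  have h1 : diff f y = diff f x := diff_congr f _ _ (by rw [B.πP_add₁, hx, add_zero]) (B.πQ_add₁ _ _ _ _)
  have h2 : diff f y = diff f x + diff f x := by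
    apply diff_eq
    rw [hy, f.map_add₁, B.add_act, ← B.add₁_act, B.add₁_comm, ← B.add₁_act]
    simp only [diff_spec]
  rw [h1] at h2
  exact (left_eq_add.1 h2)

theorem eq_id_of_diff (h : ∀ (T : C) (x : B.E.obj.obj (Opposite.op T)), diff f x = 0) :
    f = Biext.HomOver.id J B := by
  refine Biext.HomOver.ext' _ fun T x => ?_
  rw [← diff_spec f x, h, B.zero_act]
  rfl

end General

variable {S : Scheme.{u}} (K : Precoverage Scheme.{u}) [(QuotSh.J K S).Subcanonical]

/-- Endomorphisms of a biextension of abelian schemes by a separated group are trivial. -/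
theorem biextHom_eq_id (A₁ A₂ A₃ : Over S)
    [GrpObj A₁] [IsCommMonObj A₁] [Smooth A₁.hom] [IsProper A₁.hom]
    (hA₁ : ∀ s : S, ConnectedSpace ↥(A₁.hom.fiber s))
    [GrpObj A₂] [IsCommMonObj A₂] (hA₂ : ∀ s : S, ConnectedSpace ↥(A₂.hom.fiber s))
    [GrpObj A₃] [IsCommMonObj A₃] [IsSeparated A₃.hom]
    (B : Biext (QuotSh.J K S) (CGrpSh.pts K A₁) (CGrpSh.pts K A₂) (CGrpSh.pts K A₃))
    (f : Biext.Hom (QuotSh.J K S) B B) : f = Biext.HomOver.id (QuotSh.J K S) B := by
  let d : ∀ (T : Over S), B.E.obj.obj (Opposite.op T) → (T ⟶ A₃) := fun T x => (diff f x).down.toMul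
  let p : ∀ (T : Over S), B.E.obj.obj (Opposite.op T) → (T ⟶ A₁) := fun T x => (B.πP T x).down.toMul
  let q : ∀ (T : Over S), B.E.obj.obj (Opposite.op T) → (T ⟶ A₂) := fun T x => (B.πQ T x).down.toMul
  have d_map : ∀ {T T' : Over S} (g : T' ⟶ T) (x : B.E.obj.obj (Opposite.op T)),
      d T' (B.E.obj.map g.op x) = g ≫ d T x := fun g x => by
    show (diff f (B.E.obj.map g.op x)).down.toMul = _
    rw [diff_map]; rfl
  have p_map : ∀ {T T' : Over S} (g : T' ⟶ T) (x : B.E.obj.obj (Opposite.op T)),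
      p T' (B.E.obj.map g.op x) = g ≫ p T x := fun g x => by
    show (B.πP _ (B.E.obj.map g.op x)).down.toMul = _
    rw [B.πP_map]; rfl
  have q_map : ∀ {T T' : Over S} (g : T' ⟶ T) (x : B.E.obj.obj (Opposite.op T)),
      q T' (B.E.obj.map g.op x) = g ≫ q T x := fun g x => by
    show (B.πQ _ (B.E.obj.map g.op x)).down.toMul = _
    rw [B.πQ_map]; rfl
  have d_congr : ∀ {T : Over S} (x y : B.E.obj.obj (Opposite.op T)), p T x = p T y → q T x = q T y → d T x = d T y :=
    fun x y hp hq => congrArg (fun z => z.down.toMul)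
      (diff_congr f x y (ULift.ext _ _ hp) (ULift.ext _ _ hq))
  have d_q : ∀ {T : Over S} (x : B.E.obj.obj (Opposite.op T)), q T x = 1 → d T x = 1 :=
    fun x hq => congrArg (fun z => z.down.toMul) (diff_eq_zero_of_πQ f x (ULift.ext _ _ hq))
  have d_p : ∀ {T : Over S} (x : B.E.obj.obj (Opposite.op T)), p T x = 1 → d T x = 1 :=
    fun x hp => congrArg (fun z => z.down.toMul) (diff_eq_zero_of_πP f x (ULift.ext _ _ hp))
  have hsh : Presieve.IsSheaf (QuotSh.J K S) (yoneda.obj A₃) :=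
    GrothendieckTopology.Subcanonical.isSheaf_of_isRepresentable _
  obtain ⟨R, hR, hlift⟩ := B.locallySurjective (A₁ ⊗ A₂) ⟨Additive.ofMul (fst A₁ A₂)⟩ ⟨Additive.ofMul (snd A₁ A₂)⟩
  choose x hxP hxQ using hlift
  have hp : ∀ {T : Over S} (g : T ⟶ A₁ ⊗ A₂) (hg : R g), p T (x g hg) = g ≫ fst A₁ A₂ := fun g hg =>
    congrArg (fun z => z.down.toMul) (hxP g hg)
  have hq : ∀ {T : Over S} (g : T ⟶ A₁ ⊗ A₂) (hg : R g), q T (x g hg) = g ≫ snd A₁ A₂ := fun g hg =>
    congrArg (fun z => z.down.toMul) (hxQ g hg)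
  let fam : Presieve.FamilyOfElements (yoneda.obj A₃) R.arrows := fun T g hg => d T (x g hg)
  have hfam : fam.Compatible := fun T₁ T₂ Z g₁ g₂ f₁ f₂ h₁ h₂ e => by
    show g₁ ≫ d _ (x f₁ h₁) = g₂ ≫ d _ (x f₂ h₂)
    rw [← d_map, ← d_map]
    refine d_congr _ _ ?_ ?_
    · rw [p_map, p_map, hp, hp, ← Category.assoc, ← Category.assoc, e]
    · rw [q_map, q_map, hq, hq, ← Category.assoc, ← Category.assoc, e]
  let f₀ : A₁ ⊗ A₂ ⟶ A₃ := (hsh R hR).amalgamate fam hfam
  have hf₀ : ∀ {T : Over S} (g : T ⟶ A₁ ⊗ A₂) (hg : R g), g ≫ f₀ = d T (x g hg) := fun g hg =>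
    (hsh R hR).valid_glue hfam g hg
  have hloc : ∀ {T : Over S} (h : T ⟶ A₁ ⊗ A₂) (c : T ⟶ A₃),
      (∀ ⦃T' : Over S⦄ (g : T' ⟶ T) (hg : R (g ≫ h)), g ≫ c = 1) → c = 1 := fun h c hc => by
    refine (hsh (R.pullback h) ((QuotSh.J K S).pullback_stable h hR)).isSeparatedFor.ext fun T' g hg => ?_
    show g ≫ c = g ≫ 1
    rw [MonObj.comp_one]
    exact hc g hg
  have hf₁ : f₀ = 1 := by
    refine eq_one_of_axes A₁ A₂ A₃ hA₁ hA₂ f₀ ?_ ?_
    · refine hloc (lift (𝟙 _) (toUnit _ ≫ η[A₂])) _ fun T g hg => ?_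
      rw [← Category.assoc, hf₀ _ hg]
      refine d_q _ ?_
      rw [hq, Category.assoc, lift_snd, ← Hom.one_def, MonObj.comp_one]
    · refine hloc (lift (toUnit _ ≫ η[A₁]) (𝟙 _)) _ fun T g hg => ?_
      rw [← Category.assoc, hf₀ _ hg]
      refine d_p _ ?_
      rw [hp, Category.assoc, lift_fst, ← Hom.one_def, MonObj.comp_one]
  refine eq_id_of_diff f fun T y => ULift.ext _ _ ?_
  refine hloc (lift (p T y) (q T y)) (d T y) fun T' g hg => ?_
  rw [← d_map, d_congr _ (x _ hg), ← hf₀ _ hg, hf₁, MonObj.comp_one]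
  · rw [p_map, hp, Category.assoc, lift_fst]
  · rw [q_map, hq, Category.assoc, lift_snd]

end Groth.Agent.AbSchRigid22
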