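import Groth.Agent.Lib.AbSchRigid22.Basic

/-!
# A natural bilinear pairing of two abelian schemes into a separated group is trivial
-/

universe u

open CategoryTheory Limits AlgebraicGeometry MonoidalCategory CartesianMonoidalCategory MonObj
open scoped GrpObj

set_option backward.isDefEq.respectTransparency false

namespace Groth.Agent.AbSchRigid22

theorem bilin_eq_one {S : Scheme.{u}} (A B C : Over S)
    [GrpObj A] [Smooth A.hom] [IsProper A.hom] (hA : ∀ s : S, ConnectedSpace ↥(A.hom.fiber s))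
    [GrpObj B] (hB : ∀ s : S, ConnectedSpace ↥(B.hom.fiber s))
    [GrpObj C] [IsSeparated C.hom]
    (D : ∀ T : Over S, (T ⟶ A) → (T ⟶ B) → (T ⟶ C))
    (nat : ∀ (T T' : Over S) (g : T' ⟶ T) (a : T ⟶ A) (b : T ⟶ B), g ≫ D T a b = D T' (g ≫ a) (g ≫ b))
    (one_left : ∀ (T : Over S) (b : T ⟶ B), D T 1 b = 1)
    (one_right : ∀ (T : Over S) (a : T ⟶ A), D T a 1 = 1)
    (T : Over S) (a : T ⟶ A) (b : T ⟶ B) : D T a b = 1 := by
  have key : D (A ⊗ B) (fst A B) (snd A B) = 1 := by
    refine eq_one_of_axes A B C hA hB _ ?_ ?_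
    · rw [nat, lift_fst, lift_snd, ← Hom.one_def]; exact one_right _ _
    · rw [nat, lift_fst, lift_snd, ← Hom.one_def]; exact one_left _ _
  have h := nat (A ⊗ B) T (lift a b) (fst A B) (snd A B)
  rw [key, MonObj.comp_one, lift_fst, lift_snd] at h
  exact h.symm

/-- Multiplicativity gives triviality at `1`. -/
theorem map_one_of_map_mul {G H : Type*} [Group G] [Group H] (f : G → H)
    (h : ∀ x y, f (x * y) = f x * f y) : f 1 = 1 := by
  have := h 1 1
  rw [_root_.one_mul] at this
  exact (left_eq_mul.1 this)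

end Groth.Agent.AbSchRigid22
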